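import Mathlib

/-!
A central involution `e` and an element `z` not conjugate to `z * e`: the centraliser of the image
of `z` modulo `⟨e⟩` is the image of the centraliser, and isolation lifts.
-/

set_option autoImplicit false

namespace H50.U6F

variable {M : Type*} [Group M] {e z : M}

theorem eq_or_of_mk_eq (he : e * e = 1) [(Subgroup.zpowers e).Normal] {a b : M}
    (h : (a : M ⧸ Subgroup.zpowers e) = b) : b = a ∨ b = a * e := by
  obtain ⟨n, hn⟩ := (QuotientGroup.eq.1 h : a⁻¹ * b ∈ Subgroup.zpowers e)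
  have hn' : e ^ n = a⁻¹ * b := hn
  have he2 : e ^ (2 : ℤ) = 1 := by rw [zpow_two, he]
  obtain ⟨k, rfl | rfl⟩ := Int.even_or_odd' n
  · rw [zpow_mul, he2, one_zpow] at hn'
    exact Or.inl (by rw [← mul_inv_cancel_left a b, ← hn', mul_one])
  · rw [zpow_add, zpow_mul, he2, one_zpow, one_mul, zpow_one] at hn'
    exact Or.inr (by rw [hn', mul_inv_cancel_left])

theorem mk_mem_centralizer_iff (he : e * e = 1) [(Subgroup.zpowers e).Normal]
    (hne : ¬ IsConj z (z * e)) (g : M) :
    (g : M ⧸ Subgroup.zpowers e) ∈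
        Subgroup.centralizer ({(z : M ⧸ Subgroup.zpowers e)} : Set (M ⧸ Subgroup.zpowers e)) ↔
      g ∈ Subgroup.centralizer ({z} : Set M) := by
  simp only [Subgroup.mem_centralizer_singleton_iff]
  refine ⟨fun h => ?_, fun h => by rw [← QuotientGroup.mk_mul, ← QuotientGroup.mk_mul, h]⟩
  have h' : (z : M ⧸ Subgroup.zpowers e) = ((g * z * g⁻¹ : M) : M ⧸ Subgroup.zpowers e) := by
    rw [QuotientGroup.mk_mul, QuotientGroup.mk_mul, QuotientGroup.mk_inv, h, mul_inv_cancel_right]
  rcases eq_or_of_mk_eq he h' with h1 | h1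
  · exact mul_inv_eq_iff_eq_mul.1 h1
  · exact absurd (isConj_iff.2 ⟨g, h1⟩) hne

theorem centralizer_mk_eq_map (he : e * e = 1) [(Subgroup.zpowers e).Normal]
    (hne : ¬ IsConj z (z * e)) :
    Subgroup.centralizer ({(z : M ⧸ Subgroup.zpowers e)} : Set (M ⧸ Subgroup.zpowers e)) =
      (Subgroup.centralizer ({z} : Set M)).map (QuotientGroup.mk' (Subgroup.zpowers e)) := by
  ext x
  obtain ⟨g, rfl⟩ := QuotientGroup.mk_surjective x
  refine ⟨fun h => ⟨g, (mk_mem_centralizer_iff he hne g).1 h, rfl⟩, ?_⟩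
  rintro ⟨k, hk, hkg⟩
  rw [← show (k : M ⧸ Subgroup.zpowers e) = g from hkg]
  exact (mk_mem_centralizer_iff he hne k).2 hk

/-- An involution whose image is isolated is isolated. -/
theorem eq_of_isolated_mk (he : e * e = 1) [(Subgroup.zpowers e).Normal]
    (hne : ¬ IsConj z (z * e))
    (hiso : ∀ a ∈ Subgroup.centralizer
      ({(z : M ⧸ Subgroup.zpowers e)} : Set (M ⧸ Subgroup.zpowers e)),
      IsConj (z : M ⧸ Subgroup.zpowers e) a → a = z)
    {a : M} (ha : a ∈ Subgroup.centralizer ({z} : Set M)) (hc : IsConj z a) : a = z := by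
  have h := hiso (a : M ⧸ Subgroup.zpowers e) ((mk_mem_centralizer_iff he hne a).2 ha)
    ((QuotientGroup.mk' (Subgroup.zpowers e)).map_isConj hc)
  rcases eq_or_of_mk_eq he h.symm with h1 | h1
  · exact h1
  · exact absurd (h1 ▸ hc) hne

/-- If the involution `z` is isolated, it centralises each `2`-subgroup that it normalises. -/
theorem commute_of_isolated [Finite M] (hz : z * z = 1)
    (hiso : ∀ a ∈ Subgroup.centralizer ({z} : Set M), IsConj z a → a = z)
    (P : Subgroup M) (hP : IsPGroup 2 P) (hn : ∀ p ∈ P, z * p * z⁻¹ ∈ P) :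
    ∀ p ∈ P, Commute z p := by
  have hzn : z ∈ Subgroup.normalizer (P : Set M) := by
    refine Subgroup.mem_normalizer_iff.2 fun p => ⟨fun hp => hn p hp, fun hp => ?_⟩
    have hzi : z⁻¹ = z := inv_eq_of_mul_eq_one_right hz
    have := hn _ hp
    rwa [hzi, ← mul_assoc, mul_assoc _ z z, hz, mul_one, ← mul_assoc, hz, one_mul] at this
  have hQ : IsPGroup 2 (Subgroup.zpowers z ⊔ P : Subgroup M) := by
    refine IsPGroup.to_sup_of_normal_right' ?_ hP (Subgroup.zpowers_le.2 hzn)
    intro x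
    obtain ⟨n, hn'⟩ := x.2
    refine ⟨1, Subtype.ext ?_⟩
    show (x : M) ^ (2 ^ 1) = 1
    rw [← hn', pow_one, pow_two, ← zpow_add, ← two_mul, zpow_mul, zpow_two, hz, one_zpow]
  set Q : Subgroup M := Subgroup.zpowers z ⊔ P
  have hzQ : z ∈ Q := Subgroup.mem_sup_left (Subgroup.mem_zpowers z)
  intro p hp
  have hpQ : p ∈ Q := Subgroup.mem_sup_right hp
  -- a strictly increasing chain of normalisers reaches the whole group
  have key : ∀ K : Subgroup Q, (∀ k : Q, k ∈ K → Commute z (k : M)) →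
      ∀ g : Q, g ∈ Subgroup.normalizer (K : Set Q) → (⟨z, hzQ⟩ : Q) ∈ K →
        Commute z (g : M) := by
    intro K hK g hg hzK
    have h1 : g * ⟨z, hzQ⟩ * g⁻¹ ∈ K := (Subgroup.mem_normalizer_iff.1 hg _).1 hzK
    have h2 : (g : M) * z * (g : M)⁻¹ = z := hiso _
      (Subgroup.mem_centralizer_singleton_iff.2 (hK _ h1).eq.symm) (isConj_iff.2 ⟨g, rfl⟩)
    exact (mul_inv_eq_iff_eq_mul.1 h2).symm
  let K : Subgroup Q := (Subgroup.centralizer ({z} : Set M)).subgroupOf Q
  have hKmem : ∀ k : Q, k ∈ K ↔ Commute z (k : M) := fun k => by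
    rw [Subgroup.mem_subgroupOf, Subgroup.mem_centralizer_singleton_iff]
    exact ⟨Eq.symm, Eq.symm⟩
  have hK : K = ⊤ := by
    by_contra hK
    have : Fact (Nat.Prime 2) := ⟨Nat.prime_two⟩
    have := hQ.isNilpotent
    have hlt : K < Subgroup.normalizer (K : Set Q) :=
      Group.normalizerCondition_of_isNilpotent K (lt_top_iff_ne_top.2 hK)
    obtain ⟨g, hg, hgK⟩ := SetLike.exists_of_lt hlt
    exact hgK ((hKmem g).2 (key K (fun k hk => (hKmem k).1 hk) g hg
      ((hKmem _).2 (Commute.refl z))))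
  exact (hKmem ⟨p, hpQ⟩).1 (hK ▸ Subgroup.mem_top _)

end H50.U6F
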